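import Cfsg.Agent.Classical.LinearBasic

/-!
Two element generation of `SL_{n+1}`: the signed cyclic monomial matrix together with one transvection subgroup.
-/

set_option autoImplicit false

namespace Cfsg.Agent.SLTwoGen

open Matrix Matrix.SpecialLinearGroup
open scoped commutatorElement

variable {K : Type*} [Field K] {n : ℕ}

/-- The sign of the monomial matrix at row `i`. -/
def sgn (K : Type*) [Field K] {n : ℕ} (i : Fin (n + 1)) : K := if i.val = n then (-1) ^ n else 1

theorem sgn_mul_self (i : Fin (n + 1)) : sgn K i * sgn K i = 1 := by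
  unfold sgn; split_ifs
  · rw [← mul_pow]; simp
  · simp

theorem w_mulVec {w : SpecialLinearGroup (Fin (n + 1)) K}
    (hw : (w : Matrix (Fin (n + 1)) (Fin (n + 1)) K) =
      Matrix.of (fun i j => if j.val = i.val + 1 then 1 else if i.val = n ∧ j.val = 0 then (-1) ^ n else 0))
    (v : Fin (n + 1) → K) : (w : Matrix (Fin (n + 1)) (Fin (n + 1)) K) *ᵥ v = fun i => sgn K i * v (i + 1) := by
  ext i
  have hi := i.isLt
  rw [hw, Matrix.mulVec, dotProduct, Finset.sum_eq_single (i + 1)]
  · simp only [Matrix.of_apply, sgn]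
    rcases Nat.lt_or_ge i.val n with h | h
    · have e : (i + 1).val = i.val + 1 := Fin.val_add_one_of_lt (by simp [Fin.lt_def]; omega)
      rw [if_pos e, if_neg (by omega)]
    · have e : i = Fin.last n := Fin.ext (by simp; omega)
      subst e
      have e1 : (Fin.last n + 1).val = 0 := by simp
      rw [if_neg (by omega), if_pos ⟨by simp, e1⟩, if_pos (by simp)]
  · intro b _ hb
    simp only [Matrix.of_apply]
    rw [if_neg, if_neg, zero_mul]
    · rintro ⟨h1, h2⟩
      refine hb ?_
      have e : i = Fin.last n := Fin.ext (by simp [h1])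
      subst e
      exact Fin.ext (by simp [h2])
    · intro h
      refine hb (Fin.ext ?_)
      rw [h, Fin.val_add_one_of_lt]
      simp [Fin.lt_def]; omega
  · simp

/-- Conjugation by `w` shifts transvections. -/
theorem w_mul_transvection {w : SpecialLinearGroup (Fin (n + 1)) K}
    (hw : (w : Matrix (Fin (n + 1)) (Fin (n + 1)) K) =
      Matrix.of (fun i j => if j.val = i.val + 1 then 1 else if i.val = n ∧ j.val = 0 then (-1) ^ n else 0))
    {i j : Fin (n + 1)} (hij : i ≠ j) (c : K) :
    w * SpecialLinearGroup.transvection (show i + 1 ≠ j + 1 by simpa using hij) c =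
      SpecialLinearGroup.transvection hij (sgn K i * sgn K j * c) * w := by
  refine Classical.sl_ext_mulVec fun v => ?_
  simp only [Matrix.SpecialLinearGroup.coe_mul, Matrix.SpecialLinearGroup.transvection_coe, ← Matrix.mulVec_mulVec,
    Classical.tv_mulVec, w_mulVec hw]
  ext k
  simp only [Pi.add_apply]
  by_cases hk : k = i
  · subst hk
    have := sgn_mul_self (K := K) j
    simp only [Pi.single_eq_same]
    linear_combination (- sgn K k * c * v (j + 1)) * this
  · simp [Pi.single_apply, hk]

/-- The transvection subgroup at `(i, j)` lies in `H`. -/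
def Full (H : Subgroup (SpecialLinearGroup (Fin (n + 1)) K)) (i j : Fin (n + 1)) : Prop :=
  ∀ (hij : i ≠ j) (c : K), SpecialLinearGroup.transvection hij c ∈ H

variable {H : Subgroup (SpecialLinearGroup (Fin (n + 1)) K)}

theorem Full.shift {w : SpecialLinearGroup (Fin (n + 1)) K}
    (hw : (w : Matrix (Fin (n + 1)) (Fin (n + 1)) K) =
      Matrix.of (fun i j => if j.val = i.val + 1 then 1 else if i.val = n ∧ j.val = 0 then (-1) ^ n else 0))
    (hwH : w ∈ H) {i j : Fin (n + 1)} (h : Full H (i + 1) (j + 1)) : Full H i j := by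
  intro hij c
  have e := w_mul_transvection hw hij (sgn K i * sgn K j * c)
  rw [show sgn K i * sgn K j * (sgn K i * sgn K j * c) = c by
    linear_combination (sgn K j * sgn K j * c) * sgn_mul_self (K := K) i + c * sgn_mul_self (K := K) j] at e
  have := eq_mul_inv_of_mul_eq e.symm
  rw [this]
  exact H.mul_mem (H.mul_mem hwH (h _ _)) (H.inv_mem hwH)

theorem Full.trans {i j k : Fin (n + 1)} (h1 : Full H i j) (h2 : Full H j k) (hij : i ≠ j) (hjk : j ≠ k) :
    Full H i k := by
  intro hik c
  have := Classical.comm_tv hik hij hjk c (1 : K)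
  rw [mul_one] at this
  rw [← this, commutatorElement_def]
  exact H.mul_mem (H.mul_mem (H.mul_mem (h1 _ _) (h2 _ _)) (H.inv_mem (h1 _ _))) (H.inv_mem (h2 _ _))

open Fin.NatCast in
/-- `w` and the transvection subgroup at `(0, 1)` generate. -/
theorem eq_top {w : SpecialLinearGroup (Fin (n + 1)) K}
    (hw : (w : Matrix (Fin (n + 1)) (Fin (n + 1)) K) =
      Matrix.of (fun i j => if j.val = i.val + 1 then 1 else if i.val = n ∧ j.val = 0 then (-1) ^ n else 0))
    (hn : 1 ≤ n) (hwH : w ∈ H) (h01 : Full H (0 : Fin (n + 1)) 1) : H = ⊤ := by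
  obtain ⟨m, rfl⟩ : ∃ m, n = m + 1 := ⟨n - 1, by omega⟩
  have hcyc : ∀ i : Fin (m + 1 + 1), Full H i (i + 1) := by
    have : ∀ a : ℕ, Full H (-((a : ℕ) : Fin (m + 1 + 1))) (-((a : ℕ) : Fin (m + 1 + 1)) + 1) := by
      intro a
      induction a with
      | zero => simpa using h01
      | succ a ih =>
        refine Full.shift hw hwH ?_
        have e : (-((a + 1 : ℕ) : Fin (m + 1 + 1))) + 1 = -((a : ℕ) : Fin (m + 1 + 1)) := by push_cast; abel
        rw [e]; exact ih
    intro i
    have := this (-i).val
    rwa [Fin.cast_val_eq_self, neg_neg] at this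
  have hall : ∀ d : ℕ, d < m + 1 → ∀ i : Fin (m + 1 + 1), Full H i (i + ((d + 1 : ℕ) : Fin (m + 1 + 1))) := by
    intro d
    induction d with
    | zero => intro _ i; simpa using hcyc i
    | succ d ih =>
      intro hd i
      have h1 := ih (by omega) i
      have h2 := hcyc (i + ((d + 1 : ℕ) : Fin (m + 1 + 1)))
      have e : i + ((d + 1 : ℕ) : Fin (m + 1 + 1)) + 1 = i + ((d + 1 + 1 : ℕ) : Fin (m + 1 + 1)) := by push_cast; abel
      rw [← e]
      refine h1.trans h2 ?_ ?_
      · intro h
        have := congrArg Fin.val (add_left_cancel (a := i) (b := ((d + 1 : ℕ) : Fin (m + 1 + 1))) (c := 0) (by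
          rw [add_zero]; exact h.symm))
        rw [Fin.val_natCast, Nat.mod_eq_of_lt (by omega)] at this
        simp at this
      · simp
  refine Classical.sl_eq_top_of_transvection H fun i j hij c => ?_
  have hne : (j - i).val ≠ 0 := fun h => hij (sub_eq_zero.1 (Fin.ext (by simpa using h))).symm
  have hlt := (j - i).isLt
  have := hall ((j - i).val - 1) (by omega) i
  rw [show (j - i).val - 1 + 1 = (j - i).val by omega, Fin.cast_val_eq_self, add_sub_cancel] at this
  exact this hij c

end Cfsg.Agent.SLTwoGen
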